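import Groth.Agent.Hensel.Local
import Mathlib.FieldTheory.KummerPolynomial
import Mathlib.FieldTheory.IsAlgClosed.Basic
import Mathlib.RingTheory.DiscreteValuationRing.Basic
import Mathlib.RingTheory.Filtration
import Mathlib.RingTheory.AdjoinRoot
import Mathlib.Algebra.CharP.Lemmas

/-!
# Discrete valuation rings with perfect residue field, inside an algebraic closure

Starting from a discrete valuation ring `R` with residue characteristic `p`, we build by Zorn's lemma an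
extension with the same uniformizer, integral over `R`, whose residue field is perfect and purely inseparable
over that of `R`.
-/

set_option autoImplicit false
set_option linter.style.haveILetI false

universe u

open Polynomial IsLocalRing

namespace Groth.Agent.PerfResDVR7

variable {R : Type u} [CommRing R] [IsDomain R] [IsDiscreteValuationRing R] (ϖ : R)
  {Ω : Type u} [Field Ω] [Algebra R Ω] (p : ℕ)

/-- A finite subextension with uniformizer `ϖ`, rank a power of `p`, purely inseparable residue extension. -/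
structure Good (T : Subalgebra R Ω) : Prop where
  finite : Module.Finite R T
  rank : ∃ m, Module.finrank R T = p ^ m
  unit_or : ∀ x ∈ T, (∃ y ∈ T, x * y = 1) ∨ ∃ y ∈ T, x = algebraMap R Ω ϖ * y
  insep : ∀ y ∈ T, ∃ (m : ℕ) (z : R), ∃ w ∈ T, algebraMap R Ω z - y ^ p ^ m = algebraMap R Ω ϖ * w

/-- A subalgebra exhausted by good finite subalgebras. -/
def Exhausted (S : Subalgebra R Ω) : Prop :=
  ∀ s : Finset Ω, (↑s : Set Ω) ⊆ S → ∃ T, Good ϖ p T ∧ T ≤ S ∧ (↑s : Set Ω) ⊆ T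

variable {ϖ p} (hϖ : Irreducible ϖ) (hinj : Function.Injective (algebraMap R Ω))

include hϖ in
theorem maximalIdeal_eq : maximalIdeal R = Ideal.span {ϖ} := hϖ.maximalIdeal_eq

include hϖ hinj in
theorem not_unit {T : Subalgebra R Ω} [Module.Finite R T] : ¬ IsUnit (algebraMap R T ϖ) := fun h =>
  hϖ.not_isUnit (((algebraMap_isIntegral_iff.2 inferInstance : (algebraMap R T).IsIntegral).isLocalHom
    (fun a b hab => hinj (congrArg Subtype.val hab))).map_nonunit ϖ h)

theorem Good.unit_or' {T : Subalgebra R Ω} (hT : Good ϖ p T) (x : T) :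
    IsUnit x ∨ algebraMap R T ϖ ∣ x := by
  rcases hT.unit_or x x.2 with ⟨y, hy, h⟩ | ⟨y, hy, h⟩
  · exact Or.inl (.of_mul_eq_one ⟨y, hy⟩ (Subtype.ext h))
  · exact Or.inr ⟨⟨y, hy⟩, Subtype.ext h⟩

include hϖ hinj in
theorem Good.isLocalRing {T : Subalgebra R Ω} (hT : Good ϖ p T) : IsLocalRing T := by
  haveI := hT.finite
  refine .of_nonunits_add fun a b ha hb hab => ?_
  obtain ⟨a', rfl⟩ := (hT.unit_or' a).resolve_left ha
  obtain ⟨b', rfl⟩ := (hT.unit_or' b).resolve_left hb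
  rw [← mul_add] at hab
  exact not_unit hϖ hinj (isUnit_of_mul_isUnit_left hab)

include hinj in
theorem good_bot (hp : p.Prime) (hϖ : Irreducible ϖ) : Good ϖ p (⊥ : Subalgebra R Ω) := by
  let e := Algebra.botEquivOfInjective hinj
  refine ⟨Module.Finite.equiv e.symm.toLinearEquiv, ⟨0, ?_⟩, fun x hx => ?_, fun y hy => ?_⟩
  · rw [e.toLinearEquiv.finrank_eq, Module.finrank_self, pow_zero]
  · obtain ⟨r, rfl⟩ := Algebra.mem_bot.1 hx
    by_cases hr : IsUnit r
    · obtain ⟨s, hs⟩ := hr.exists_right_inv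
      exact Or.inl ⟨_, Algebra.mem_bot.2 ⟨s, rfl⟩, by rw [← map_mul, hs, map_one]⟩
    · have hm : r ∈ maximalIdeal R := hr
      rw [hϖ.maximalIdeal_eq, Ideal.mem_span_singleton] at hm
      obtain ⟨s, rfl⟩ := hm
      exact Or.inr ⟨_, Algebra.mem_bot.2 ⟨s, rfl⟩, map_mul _ _ _⟩
  · obtain ⟨r, rfl⟩ := Algebra.mem_bot.1 hy
    exact ⟨0, r, 0, zero_mem _, by simp⟩

include hϖ hinj in
/-- Adjoining a `p`-th root of an element whose residue class is not a `p`-th power. -/
theorem Good.extend {T : Subalgebra R Ω} (hT : Good ϖ p T) (hp : p.Prime) (hpR : (p : R) ∈ maximalIdeal R)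
    {a : Ω} (ha : a ∈ T) (hna : ∀ z ∈ T, ¬ ∃ w ∈ T, z ^ p - a = algebraMap R Ω ϖ * w)
    {α : Ω} (hα : α ^ p = a) : Good ϖ p (T ⊔ Algebra.adjoin R {α}) := by
  classical
  haveI := hT.finite
  haveI := hT.isLocalRing hϖ hinj
  haveI : IsNoetherianRing T := IsNoetherianRing.of_finite R T
  haveI : Module.IsTorsionFree R T :=
    Module.isTorsionFree_iff_algebraMap_injective.2 fun x y h => hinj (congrArg Subtype.val h)
  haveI : Module.Free R T := Module.free_of_finite_type_torsion_free'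
  let π : T := algebraMap R T ϖ
  have hmT : maximalIdeal T = Ideal.span {π} := by
    refine le_antisymm (fun x hx => ?_) ?_
    · exact Ideal.mem_span_singleton.2 ((hT.unit_or' x).resolve_left hx)
    · rw [Ideal.span_le, Set.singleton_subset_iff]; exact not_unit hϖ hinj
  let a' : T := ⟨a, ha⟩
  let f : T[X] := X ^ p - C a'
  have hf : f.Monic := monic_X_pow_sub_C a' hp.ne_zero
  haveI := hf.free_adjoinRoot
  haveI := hf.finite_adjoinRoot
  let Q := AdjoinRoot f
  haveI : Module.Finite R Q := Module.Finite.trans T Q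
  let ψ₀ : Q →ₐ[T] Ω := AdjoinRoot.liftAlgHom f (Algebra.ofId T Ω) α (by
    simp only [f, eval₂_sub, eval₂_pow, eval₂_X, eval₂_C]
    rw [hα, sub_eq_zero]; rfl)
  let ψ : Q →ₐ[R] Ω := ψ₀.restrictScalars R
  let ρ : T[X] →+* (ResidueField T)[X] := mapRingHom (IsLocalRing.residue T)
  have hirr : Irreducible (ρ f) := by
    have : ρ f = X ^ p - C (IsLocalRing.residue T a') := by simp [ρ, f]
    rw [this]
    refine X_pow_sub_C_irreducible_of_prime hp fun b hb => ?_
    obtain ⟨z, rfl⟩ := IsLocalRing.residue_surjective b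
    rw [← map_pow, ← sub_eq_zero, ← map_sub, IsLocalRing.residue_eq_zero_iff, hmT, Ideal.mem_span_singleton] at hb
    obtain ⟨w, hw⟩ := hb
    exact hna z.1 z.2 ⟨w.1, w.2, congrArg Subtype.val hw⟩
  have hQ : ∀ x : Q, IsUnit x ∨ algebraMap R Q ϖ ∣ x := by
    intro x
    obtain ⟨g, rfl⟩ := AdjoinRoot.mk_surjective x
    have hdiv : ∀ g : T[X], ρ g = 0 → algebraMap R Q ϖ ∣ AdjoinRoot.mk f g := fun g hg => by
      have : C π ∣ g := (C_dvd_iff_dvd_coeff _ _).2 fun i => by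
        have h : IsLocalRing.residue T (g.coeff i) = 0 := by
          simpa [ρ] using congrArg (fun q => q.coeff i) hg
        rwa [IsLocalRing.residue_eq_zero_iff, hmT, Ideal.mem_span_singleton] at h
      obtain ⟨h, rfl⟩ := this
      exact ⟨AdjoinRoot.mk f h, by rw [map_mul, AdjoinRoot.mk_C, IsScalarTower.algebraMap_apply R T Q]; rfl⟩
    by_cases hd : ρ f ∣ ρ g
    · obtain ⟨c, hc⟩ := hd
      obtain ⟨c, rfl⟩ := map_surjective _ IsLocalRing.residue_surjective c
      right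
      have := hdiv (g - f * c) (by rw [map_sub, map_mul, hc]; exact sub_self _)
      rwa [map_sub, map_mul, AdjoinRoot.mk_self, zero_mul, sub_zero] at this
    · obtain ⟨u, v, huv⟩ := hirr.isCoprime_or_dvd (ρ g) |>.resolve_right hd
      obtain ⟨u, rfl⟩ := map_surjective _ IsLocalRing.residue_surjective u
      obtain ⟨v, rfl⟩ := map_surjective _ IsLocalRing.residue_surjective v
      obtain ⟨t, ht⟩ := hdiv (u * f + v * g - 1) (by rw [map_sub, map_add, map_mul, map_mul, map_one]; exact sub_eq_zero.2 huv)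
      rw [map_sub, map_add, map_mul, map_mul, AdjoinRoot.mk_self, mul_zero, zero_add, map_one, sub_eq_iff_eq_add] at ht
      have hj : algebraMap R Q ϖ ∈ Ideal.jacobson (⊥ : Ideal Q) := Ideal.mem_sInf.2 fun {M} hM => by
        haveI := hM.2
        have h := Ideal.isMaximal_comap_of_isIntegral_of_isMaximal (R := R) M
        show ϖ ∈ M.comap (algebraMap R Q)
        rw [IsLocalRing.eq_maximalIdeal h, hϖ.maximalIdeal_eq]
        exact Ideal.mem_span_singleton_self ϖ
      left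
      have hu : IsUnit (algebraMap R Q ϖ * t + 1) := Ideal.mem_jacobson_bot.1 hj t
      exact isUnit_of_mul_isUnit_right (ht ▸ hu)
  haveI : Nontrivial Q := ψ.toRingHom.domain_nontrivial
  have hRQ : Function.Injective (algebraMap R Q) := fun x y h => hinj (by rw [← ψ.commutes, h, ψ.commutes])
  have hπQ : ¬ IsUnit (algebraMap R Q ϖ) := fun h =>
    hϖ.not_isUnit (((algebraMap_isIntegral_iff.2 inferInstance : (algebraMap R Q).IsIntegral).isLocalHom hRQ).map_nonunit ϖ h)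
  haveI : IsLocalRing Q := .of_nonunits_add fun x y hx hy hxy => by
    obtain ⟨x', rfl⟩ := (hQ x).resolve_left hx
    obtain ⟨y', rfl⟩ := (hQ y).resolve_left hy
    rw [← mul_add] at hxy
    exact hπQ (isUnit_of_mul_isUnit_left hxy)
  haveI : IsNoetherianRing Q := IsNoetherianRing.of_finite R Q
  have hψinj : Function.Injective ψ := by
    refine (injective_iff_map_eq_zero ψ).2 fun x hx => ?_
    have key : ∀ n, ∀ x : Q, ψ x = 0 → x ∈ Ideal.span {algebraMap R Q ϖ} ^ n := by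
      intro n
      induction n with
      | zero => intro x _; simp
      | succ n ih =>
        intro x hx
        rcases hQ x with h | ⟨y, rfl⟩
        · exact absurd (hx ▸ h.map ψ) not_isUnit_zero
        · have hy : ψ y = 0 := by
            rw [map_mul, ψ.commutes, mul_eq_zero] at hx
            exact hx.resolve_left fun h => hϖ.ne_zero (hinj (by rw [h, map_zero]))
          rw [pow_succ']
          exact Ideal.mul_mem_mul (Ideal.mem_span_singleton_self _) (ih y hy)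
    have hb : x ∈ ⨅ n : ℕ, Ideal.span {algebraMap R Q ϖ} ^ n := Ideal.mem_iInf.2 fun n => key n x hx
    rw [Ideal.iInf_pow_eq_bot_of_isLocalRing] at hb
    · exact hb
    · rw [Ne, Ideal.span_singleton_eq_top]; exact hπQ
  have hroot : ψ₀ (AdjoinRoot.root f) = α := AdjoinRoot.liftAlgHom_root _ _ _ _
  have hof : ∀ c : T, ψ₀ (AdjoinRoot.of f c) = (c : Ω) := fun c => AdjoinRoot.liftAlgHom_of _ _ _ _ c
  have hmon : ∀ (n : ℕ) (c : T), ψ (AdjoinRoot.mk f (monomial n c)) = (c : Ω) * α ^ n := fun n c => by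
    show ψ₀ (AdjoinRoot.mk f (monomial n c)) = _
    rw [AdjoinRoot.liftAlgHom_mk, eval₂_monomial]
    rfl
  have hrange : ψ.range = T ⊔ Algebra.adjoin R {α} := by
    refine le_antisymm ?_ (sup_le (fun x hx => ⟨AdjoinRoot.of f ⟨x, hx⟩, ?_⟩)
      (Algebra.adjoin_le (Set.singleton_subset_iff.2 ⟨AdjoinRoot.root f, ?_⟩)))
    · rintro _ ⟨x, rfl⟩
      induction x using AdjoinRoot.induction_on with
      | ih g =>
        induction g using Polynomial.induction_on' with
        | add g g' hg hg' =>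
          simp only [map_add]
          exact add_mem hg hg'
        | monomial n c =>
          have : ψ (AdjoinRoot.mk f (monomial n c)) = (c : Ω) * α ^ n := hmon n c
          show ψ (AdjoinRoot.mk f (monomial n c)) ∈ _
          rw [this]
          exact mul_mem ((le_sup_left : T ≤ _) c.2) (pow_mem ((le_sup_right : Algebra.adjoin R {α} ≤ _) (Algebra.subset_adjoin rfl)) _)
    · exact hof _
    · exact hroot
  rw [← hrange]
  let e : Q ≃ₐ[R] ψ.range := AlgEquiv.ofInjective ψ hψinj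
  obtain ⟨m, hm⟩ := hT.rank
  refine ⟨Module.Finite.equiv e.toLinearEquiv, ⟨m + 1, ?_⟩, ?_, ?_⟩
  · rw [← e.toLinearEquiv.finrank_eq, ← Module.finrank_mul_finrank R T Q, hm,
      (AdjoinRoot.powerBasis' hf).finrank, AdjoinRoot.powerBasis'_dim, natDegree_X_pow_sub_C, pow_succ]
  · rintro _ ⟨x, rfl⟩
    rcases hQ x with h | ⟨y, rfl⟩
    · obtain ⟨y, hy⟩ := h.exists_right_inv
      exact Or.inl ⟨ψ y, ⟨y, rfl⟩, (map_mul ψ x y).symm.trans (by rw [hy, map_one])⟩
    · exact Or.inr ⟨ψ y, ⟨y, rfl⟩, by show ψ (_ * y) = _; rw [map_mul, ψ.commutes]⟩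
  · intro y hy
    have hTle : T ≤ ψ.range := hrange ▸ le_sup_left
    obtain ⟨c, hc⟩ : ∃ c : Ω, c ∈ ψ.range ∧ (p : Ω) = algebraMap R Ω ϖ * c := by
      rw [hϖ.maximalIdeal_eq, Ideal.mem_span_singleton] at hpR
      obtain ⟨c, hc⟩ := hpR
      exact ⟨algebraMap R Ω c, Subalgebra.algebraMap_mem _ c, by rw [← map_mul, ← hc, map_natCast]⟩
    have hpow : ∀ x : Q, ∃ t ∈ T, ∃ w ∈ ψ.range, ψ x ^ p - t = algebraMap R Ω ϖ * w := by
      intro x
      induction x using AdjoinRoot.induction_on with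
      | ih g =>
        induction g using Polynomial.induction_on' with
        | add g g' hg hg' =>
          obtain ⟨t, ht, w, hw, h⟩ := hg
          obtain ⟨t', ht', w', hw', h'⟩ := hg'
          rw [map_add, map_add]
          have key := add_pow_prime_eq hp (ψ (AdjoinRoot.mk f g)) (ψ (AdjoinRoot.mk f g'))
          refine ⟨t + t', add_mem ht ht', w + w' + c * ?_, add_mem (add_mem hw hw') (mul_mem hc.1 ?_), ?_⟩
          · exact ψ (AdjoinRoot.mk f g) * ψ (AdjoinRoot.mk f g') * ∑ k ∈ Finset.Ioo 0 p,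
              ψ (AdjoinRoot.mk f g) ^ (k - 1) * ψ (AdjoinRoot.mk f g') ^ (p - k - 1) * ↑(p.choose k / p)
          · exact mul_mem (mul_mem (ψ.mem_range_self _) (ψ.mem_range_self _)) (sum_mem fun k _ =>
              mul_mem (mul_mem (pow_mem (ψ.mem_range_self _) _) (pow_mem (ψ.mem_range_self _) _)) (natCast_mem _ _))
          · rw [key, hc.2]
            linear_combination h + h'
        | monomial n b =>
          refine ⟨(b : Ω) ^ p * a ^ n, mul_mem (pow_mem b.2 _) (pow_mem ha _), 0, zero_mem _, ?_⟩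
          have : ψ (AdjoinRoot.mk f (monomial n b)) = (b : Ω) * α ^ n := by
            exact hmon n b
          rw [this, mul_pow, ← pow_mul, mul_comm n p, pow_mul, hα, sub_self, mul_zero]
    obtain ⟨x, rfl⟩ := hy
    obtain ⟨t, ht, w, hw, h⟩ := hpow x
    obtain ⟨m', z, w', hw', h'⟩ := hT.insep t ht
    obtain ⟨d, hd⟩ : ∃ d ∈ ψ.range, (ψ x ^ p) ^ p ^ m' - t ^ p ^ m' = (ψ x ^ p - t) * d :=
      ⟨_, sum_mem fun i _ => mul_mem (pow_mem (pow_mem (ψ.mem_range_self x) _) _) (pow_mem (hTle ht) _),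
        (mul_comm _ _ |>.trans (geom_sum₂_mul (ψ x ^ p) t (p ^ m'))).symm⟩
    refine ⟨m' + 1, z, w' - w * d, sub_mem (hTle hw') (mul_mem hw hd.1), ?_⟩
    show algebraMap R Ω z - ψ x ^ p ^ (m' + 1) = _
    rw [pow_succ' p m', pow_mul]
    linear_combination h' - hd.2 - d * h

include hϖ hinj in
/-- A maximal exhausted subalgebra has perfect residue field. -/
theorem exists_exhausted [IsAlgClosed Ω] (hp : p.Prime) (hpR : (p : R) ∈ maximalIdeal R) :
    ∃ S : Subalgebra R Ω, Exhausted ϖ p S ∧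
      ∀ a ∈ S, ∃ z ∈ S, ∃ w ∈ S, z ^ p - a = algebraMap R Ω ϖ * w := by
  classical
  have hbot : Exhausted ϖ p (⊥ : Subalgebra R Ω) := fun s hs => ⟨⊥, good_bot hinj hp hϖ, le_rfl, hs⟩
  obtain ⟨S, hS⟩ := zorn_le₀ {S : Subalgebra R Ω | Exhausted ϖ p S} fun c hc hch => by
    rcases c.eq_empty_or_nonempty with rfl | hne
    · exact ⟨⊥, hbot, fun z hz => hz.elim⟩
    haveI : Nonempty c := hne.to_subtype
    have hdir : Directed (· ≤ ·) fun S : c => (S : Subalgebra R Ω) := hch.directedOn.directed_val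
    refine ⟨⨆ S : c, (S : Subalgebra R Ω), fun s hs => ?_, fun z hz => le_iSup (fun S : c => (S : Subalgebra R Ω)) ⟨z, hz⟩⟩
    rw [Subalgebra.coe_iSup_of_directed hdir] at hs
    obtain ⟨i, hi⟩ : ∃ i : c, (↑s : Set Ω) ⊆ (i.1 : Subalgebra R Ω) :=
      Directed.exists_mem_subset_of_finset_subset_biUnion (hdir.mono_comp _ fun _ _ h => h) hs
    obtain ⟨T, hT, hTS, hsT⟩ := hc i.2 s hi
    exact ⟨T, hT, hTS.trans (le_iSup (fun S : c => (S : Subalgebra R Ω)) i), hsT⟩
  have hSe : Exhausted ϖ p S := hS.1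
  refine ⟨S, hSe, fun a ha => ?_⟩
  by_contra hna
  push Not at hna
  obtain ⟨α, hα⟩ := IsAlgClosed.exists_pow_nat_eq a hp.pos
  have hjoin : ∀ T₁ T₂ : Subalgebra R Ω, Good ϖ p T₁ → T₁ ≤ S → Good ϖ p T₂ → T₂ ≤ S →
      ∃ T, Good ϖ p T ∧ T ≤ S ∧ T₁ ≤ T ∧ T₂ ≤ T := fun T₁ T₂ h₁ l₁ h₂ l₂ => by
    haveI := h₁.finite
    haveI := h₂.finite
    obtain ⟨g₁, hg₁⟩ := Subalgebra.fg_of_fg_toSubmodule (Module.Finite.iff_fg.1 h₁.finite : (Subalgebra.toSubmodule T₁).FG)
    obtain ⟨g₂, hg₂⟩ := Subalgebra.fg_of_fg_toSubmodule (Module.Finite.iff_fg.1 h₂.finite : (Subalgebra.toSubmodule T₂).FG)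
    have e₁ : (↑g₁ : Set Ω) ⊆ T₁ := hg₁ ▸ Algebra.subset_adjoin
    have e₂ : (↑g₂ : Set Ω) ⊆ T₂ := hg₂ ▸ Algebra.subset_adjoin
    obtain ⟨T, hT, hTS, hsT⟩ := hSe (g₁ ∪ g₂) (by
      rw [Finset.coe_union]; exact Set.union_subset (e₁.trans l₁) (e₂.trans l₂))
    rw [Finset.coe_union, Set.union_subset_iff] at hsT
    exact ⟨T, hT, hTS, hg₁ ▸ Algebra.adjoin_le hsT.1, hg₂ ▸ Algebra.adjoin_le hsT.2⟩
  obtain ⟨T₀, hT₀, hT₀S, haT₀⟩ := hSe {a} (by simpa using ha)
  have hmem : ∀ y ∈ S ⊔ Algebra.adjoin R {α}, ∃ T, Good ϖ p T ∧ T ≤ S ∧ T₀ ≤ T ∧ y ∈ T ⊔ Algebra.adjoin R {α} := by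
    intro y hy
    have hsup : S ⊔ Algebra.adjoin R {α} = Algebra.adjoin R ((S : Set Ω) ∪ {α}) := by
      rw [Algebra.adjoin_union, Algebra.adjoin_eq]
    rw [hsup] at hy
    induction hy using Algebra.adjoin_induction with
    | mem x hx =>
      rcases hx with hx | hx
      · obtain ⟨T₁, h₁, l₁, hxT⟩ := hSe {x} (by simpa using hx)
        obtain ⟨T, hT, hTS, k₀, k₁⟩ := hjoin T₀ T₁ hT₀ hT₀S h₁ l₁
        exact ⟨T, hT, hTS, k₀, (le_sup_left : T ≤ _) (k₁ (hxT (Finset.mem_singleton_self x)))⟩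
      · exact ⟨T₀, hT₀, hT₀S, le_rfl, (le_sup_right : Algebra.adjoin R {α} ≤ _) (Algebra.subset_adjoin hx)⟩
    | algebraMap r => exact ⟨T₀, hT₀, hT₀S, le_rfl, Subalgebra.algebraMap_mem _ r⟩
    | add x z _ _ hx hz =>
      obtain ⟨T₁, h₁, l₁, k₁, m₁⟩ := hx
      obtain ⟨T₂, h₂, l₂, k₂, m₂⟩ := hz
      obtain ⟨T, hT, hTS, a₁, a₂⟩ := hjoin T₁ T₂ h₁ l₁ h₂ l₂
      exact ⟨T, hT, hTS, k₁.trans a₁, add_mem (sup_le_sup_right a₁ _ m₁) (sup_le_sup_right a₂ _ m₂)⟩
    | mul x z _ _ hx hz =>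
      obtain ⟨T₁, h₁, l₁, k₁, m₁⟩ := hx
      obtain ⟨T₂, h₂, l₂, k₂, m₂⟩ := hz
      obtain ⟨T, hT, hTS, a₁, a₂⟩ := hjoin T₁ T₂ h₁ l₁ h₂ l₂
      exact ⟨T, hT, hTS, k₁.trans a₁, mul_mem (sup_le_sup_right a₁ _ m₁) (sup_le_sup_right a₂ _ m₂)⟩
  have hext : Exhausted ϖ p (S ⊔ Algebra.adjoin R {α}) := by
    intro s hs
    obtain ⟨T, hT, hTS, k, hsT⟩ : ∃ T, Good ϖ p T ∧ T ≤ S ∧ T₀ ≤ T ∧
        (↑s : Set Ω) ⊆ ↑(T ⊔ Algebra.adjoin R {α}) := by
      induction s using Finset.induction with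
      | empty => exact ⟨T₀, hT₀, hT₀S, le_rfl, by simp⟩
      | insert x s _ ih =>
        rw [Finset.coe_insert, Set.insert_subset_iff] at hs
        obtain ⟨T₁, h₁, l₁, k₁, m₁⟩ := ih hs.2
        obtain ⟨T₂, h₂, l₂, k₂, m₂⟩ := hmem x hs.1
        obtain ⟨T, hT, hTS, a₁, a₂⟩ := hjoin T₁ T₂ h₁ l₁ h₂ l₂
        refine ⟨T, hT, hTS, k₁.trans a₁, ?_⟩
        rw [Finset.coe_insert, Set.insert_subset_iff]
        exact ⟨sup_le_sup_right a₂ _ m₂, m₁.trans (SetLike.coe_subset_coe.2 (sup_le_sup_right a₁ _))⟩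
    refine ⟨_, hT.extend hϖ hinj hp hpR (k (haT₀ (Finset.mem_singleton_self a))) (fun z hz ⟨w, hw, h⟩ =>
      hna z (hTS hz) w (hTS hw) h) hα, sup_le_sup_right hTS _, hsT⟩
  have hle := hS.2 hext le_sup_left
  have hαS : α ∈ S := hle ((le_sup_right : Algebra.adjoin R {α} ≤ S ⊔ _) (Algebra.subset_adjoin rfl))
  exact hna α hαS 0 (zero_mem _) (by rw [hα, sub_self, mul_zero])

include hϖ hinj in
theorem Exhausted.not_unit {S : Subalgebra R Ω} (hS : Exhausted ϖ p S) : ¬ IsUnit (algebraMap R S ϖ) := by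
  classical
  intro h
  obtain ⟨y, hy⟩ := h.exists_right_inv
  obtain ⟨T, hT, hTS, hyT⟩ := hS {(y : Ω)} (by simpa using y.2)
  haveI := hT.finite
  have hy' : algebraMap R Ω ϖ * (y : Ω) = 1 := congrArg Subtype.val hy
  exact PerfResDVR7.not_unit hϖ hinj
    (IsUnit.of_mul_eq_one (⟨(y : Ω), hyT (Finset.mem_singleton_self _)⟩ : T) (Subtype.ext hy'))

theorem Exhausted.unit_or {S : Subalgebra R Ω} (hS : Exhausted ϖ p S) (x : S) :
    IsUnit x ∨ algebraMap R S ϖ ∣ x := by
  classical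
  obtain ⟨T, hT, hTS, hxT⟩ := hS {(x : Ω)} (by simpa using x.2)
  rcases hT.unit_or x (hxT (Finset.mem_singleton_self _)) with ⟨y, hy, h⟩ | ⟨y, hy, h⟩
  · exact Or.inl (.of_mul_eq_one ⟨y, hTS hy⟩ (Subtype.ext h))
  · exact Or.inr ⟨⟨y, hTS hy⟩, Subtype.ext h⟩

include hϖ hinj in
theorem Exhausted.isLocalRing {S : Subalgebra R Ω} (hS : Exhausted ϖ p S) : IsLocalRing S := by
  refine .of_nonunits_add fun a b ha hb hab => ?_
  obtain ⟨a', rfl⟩ := (hS.unit_or a).resolve_left ha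
  obtain ⟨b', rfl⟩ := (hS.unit_or b).resolve_left hb
  rw [← mul_add] at hab
  exact hS.not_unit hϖ hinj (isUnit_of_mul_isUnit_left hab)

include hϖ hinj in
theorem Exhausted.isDVR {S : Subalgebra R Ω} (hS : Exhausted ϖ p S) : IsDiscreteValuationRing S := by
  classical
  refine IsDiscreteValuationRing.ofHasUnitMulPowIrreducibleFactorization ⟨algebraMap R S ϖ,
    irreducible_iff.2 ⟨hS.not_unit hϖ hinj, fun a b h => ?_⟩, fun {x} hx => ?_⟩
  · by_contra hcon
    push Not at hcon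
    obtain ⟨a', rfl⟩ := (hS.unit_or a).resolve_left hcon.1
    obtain ⟨b', rfl⟩ := (hS.unit_or b).resolve_left hcon.2
    have h0 : algebraMap R S ϖ ≠ 0 := fun e => hϖ.ne_zero (hinj (by
      simpa using congrArg Subtype.val e))
    refine hS.not_unit hϖ hinj (IsUnit.of_mul_eq_one (a' * b') (mul_left_cancel₀ h0 ?_))
    rw [mul_one]; calc _ = algebraMap R S ϖ * a' * (algebraMap R S ϖ * b') := by ring
      _ = algebraMap R S ϖ := h.symm
  · obtain ⟨T, hT, hTS, hxT⟩ := hS {(x : Ω)} (by simpa using x.2)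
    haveI := hT.finite
    haveI := hT.isLocalRing hϖ hinj
    haveI : IsNoetherianRing T := IsNoetherianRing.of_finite R T
    let x' : T := ⟨x, hxT (Finset.mem_singleton_self _)⟩
    have hx' : x' ≠ 0 := fun h => hx (Subtype.ext (congrArg Subtype.val h :))
    obtain ⟨n, u, hu⟩ : ∃ (n : ℕ) (u : T), IsUnit u ∧ x' = algebraMap R T ϖ ^ n * u := by
      by_contra hcon
      push Not at hcon
      have key : ∀ n, ∃ y, x' = algebraMap R T ϖ ^ n * y := by
        intro n
        induction n with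
        | zero => exact ⟨x', by simp⟩
        | succ n ih =>
          obtain ⟨y, hy⟩ := ih
          obtain ⟨z, rfl⟩ := (hT.unit_or' y).resolve_left fun h => hcon n y h hy
          exact ⟨z, by rw [hy, pow_succ]; ring⟩
      refine hx' ?_
      have hb : x' ∈ ⨅ n : ℕ, Ideal.span {algebraMap R T ϖ} ^ n := Ideal.mem_iInf.2 fun n => by
        obtain ⟨y, hy⟩ := key n
        rw [Ideal.span_singleton_pow, Ideal.mem_span_singleton]
        exact ⟨y, hy⟩
      rw [Ideal.iInf_pow_eq_bot_of_isLocalRing] at hb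
      · exact hb
      · rw [Ne, Ideal.span_singleton_eq_top]; exact PerfResDVR7.not_unit hϖ hinj
    refine ⟨n, ?_⟩
    obtain ⟨v, hv⟩ := hu.1.map (Subalgebra.inclusion hTS)
    refine ⟨v, ?_⟩
    rw [hv]
    exact Subtype.ext (congrArg Subtype.val hu.2).symm

include hϖ hinj in
theorem Exhausted.henselian [HenselianLocalRing R] {S : Subalgebra R Ω} (hS : Exhausted ϖ p S) :
    HenselianLocalRing S := by
  classical
  haveI := hS.isLocalRing hϖ hinj
  refine { is_henselian := fun f hf a₀ h0 h1 => ?_ }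
  obtain ⟨T, hT, hTS, hsub⟩ := hS ((f.support.image fun i => ((f.coeff i : S) : Ω)) ∪ {(a₀ : Ω)}) (by
    intro z hz
    simp only [Finset.coe_union, Finset.coe_image, Finset.coe_singleton, Set.mem_union, Set.mem_image,
      Set.mem_singleton_iff] at hz
    rcases hz with ⟨i, -, rfl⟩ | rfl
    exacts [(f.coeff i).2, a₀.2])
  haveI := hT.finite
  haveI := hT.isLocalRing hϖ hinj
  haveI := Hensel.henselianLocalRing_of_finite R T
  let ι : T →+* S := (Subalgebra.inclusion hTS).toRingHom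
  have hι : Function.Injective ι := Subalgebra.inclusion_injective hTS
  haveI : IsLocalHom ι := ⟨fun t ht => by
    by_contra hnu
    obtain ⟨t', rfl⟩ := (hT.unit_or' t).resolve_left hnu
    rw [map_mul] at ht
    exact hS.not_unit hϖ hinj (isUnit_of_mul_isUnit_left ht)⟩
  have hmemf : f ∈ Polynomial.lifts ι := (Polynomial.lifts_iff_coeff_lifts f).2 fun i => by
    by_cases hi : i ∈ f.support
    · exact ⟨⟨_, hsub (Finset.mem_union_left _ (Finset.mem_image_of_mem _ hi))⟩, rfl⟩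
    · exact ⟨0, by rw [map_zero, Polynomial.notMem_support_iff.1 hi]⟩
  obtain ⟨g, hg, -, hgm⟩ := Polynomial.lifts_and_degree_eq_and_monic hmemf hf
  let b₀ : T := ⟨(a₀ : Ω), hsub (Finset.mem_union_right _ (Finset.mem_singleton_self _))⟩
  have hb₀ : ι b₀ = a₀ := rfl
  rw [← hb₀, ← hg, eval_map, eval₂_at_apply] at h0
  rw [← hb₀, ← hg, derivative_map, eval_map, eval₂_at_apply] at h1
  obtain ⟨b, hb, hbb⟩ := HenselianLocalRing.is_henselian g hgm b₀
    (fun h => h0 (h.map ι)) (isUnit_of_map_unit ι _ h1)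
  refine ⟨ι b, ?_, ?_⟩
  · rw [IsRoot.def, ← hg, eval_map, eval₂_at_apply, hb, map_zero]
  · rw [← hb₀, ← map_sub]
    exact fun h => hbb (isUnit_of_map_unit ι _ h)

end Groth.Agent.PerfResDVR7
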